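import Mathlib
import Cfsg.Agent.H495.Cod.Basic
import Cfsg.Agent.H704.Enum
import Cfsg.Agent.H704.Branch
import Cfsg.Agent.H746.Corners

/-!
# Task 870 (helper495, S4941): an alternating group `A_m`, `m < n`, does not have all `|A_n : A_m| d` as degrees of `A_n`
-/

set_option autoImplicit false
set_option linter.unusedSectionVars false

universe u

namespace Cfsg.Agent.H462.Cod

open Cfsg Cfsg.Agent.Characters.Core Cfsg.Agent.H686.CharKit Cfsg.Agent.H495.Cod Subgroup
open Cfsg.Agent.H704 (IsDeg)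

/-- The degrees given by the hook formula are degrees of irreducible characters. -/
theorem exists_irr_of_isDeg {m e : ℕ} (h : IsDeg m e) :
    ∃ χ : Equiv.Perm (Fin m) → ℂ, IsIrrCharacter (Equiv.Perm (Fin m)) χ ∧ χ 1 = e := by
  obtain ⟨l, hl, hd⟩ := h
  obtain ⟨β, h1, h2⟩ := H704.exists_tuple hl.sorted
  have h6 := H704.sum_tuple h1 h2 hl.sum
  have h7 := H704.deg_unique h1 h2 hl.sum hd
  refine ⟨H614.ch (Fin m) β, H614.isIrr_ch h1 (by rw [Fintype.card_fin]; exact h6), ?_⟩
  rw [H614.ch_apply, H614.ty_one, Fintype.card_fin, ← h7]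
  simp

theorem exists_adeg_of_isDeg {m e : ℕ} (hm : 5 ≤ m) (he : 2 < e) (h : IsDeg m e) : ∃ d, ADeg m d ∧ e ≤ 2 * d := by
  classical
  obtain ⟨χ, hχ, hχ1⟩ := exists_irr_of_isDeg h
  have : Fintype ↥(alternatingGroup (Fin m)) := Fintype.ofFinite _
  have hres : IsCharacter ↥(alternatingGroup (Fin m)) (fun n : ↥(alternatingGroup (Fin m)) => χ n) :=
    isCharacter_comp (alternatingGroup (Fin m)).subtype (isIrr_isCharacter hχ)
  have h0 : (fun n : ↥(alternatingGroup (Fin m)) => χ n) ≠ 0 := by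
    intro h1
    exact isIrr_apply_one_ne_zero hχ (congrFun h1 1)
  obtain ⟨ψ, hψ, hne⟩ : ∃ θ : ↥(alternatingGroup (Fin m)) → ℂ, IsIrrCharacter ↥(alternatingGroup (Fin m)) θ ∧
      classInner (fun n : ↥(alternatingGroup (Fin m)) => χ n) θ ≠ 0 := by
    by_contra hcon
    push Not at hcon
    exact h0 (classFunction_eq_zero (isCharacter_isClassFunction hres) hcon)
  have hidx : (alternatingGroup (Fin m)).index = 2 := by
    have : Nontrivial (Fin m) := Fin.nontrivial_iff_two_le.2 (by omega)
    exact alternatingGroup.index_eq_two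
  obtain ⟨b, hb0, hb⟩ := isIrr_apply_one hψ
  have hle := H621.SymDeg.degree_le_index_mul (alternatingGroup (Fin m)) hχ hψ hne hχ1 hb
  rw [hidx] at hle
  have hcd : charDegree ψ = b := by
    have h1 := charDegree_cast (isIrr_isCharacter hψ)
    rw [hb] at h1
    exact_mod_cast h1
  refine ⟨b, ⟨⟨ψ, hψ⟩, ?_, hcd⟩, hle⟩
  intro h1
  have h2 : ψ 1 = 1 := congrFun h1 1
  rw [hb] at h2
  have h3 : b = 1 := by exact_mod_cast h2
  omega

/-- The branching bound. -/
theorem deg_bound {m D : ℕ} (hm : 5 ≤ m) (hD : ∀ e, IsDeg m e → e ≤ D) (hD0 : 0 < D) :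
    ∀ j : ℕ, ∀ e, IsDeg (m + j) e → e * 2 ^ j * m.factorial ≤ (m + j).factorial * D ∧
      (7 ≤ m + j → 1 ≤ j → e * 2 ^ j * m.factorial < (m + j).factorial * D) := by
  intro j
  induction j with
  | zero =>
    intro e he
    refine ⟨?_, fun _ h => absurd h (by norm_num)⟩
    rw [add_zero, pow_zero, mul_one, mul_comm]
    exact Nat.mul_le_mul_left _ (hD e he)
  | succ j ih =>
    intro d hd
    obtain ⟨c, e, hc, he, hde⟩ := H746.Corners.deg_le_corners (n := m + j) hd
    obtain ⟨h1, -⟩ := ih e he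
    have h2c : 2 * c ≤ m + j + 1 := by
      by_contra hcon
      push Not at hcon
      nlinarith
    have hpos : 0 < (m + j).factorial * D := Nat.mul_pos (Nat.factorial_pos _) hD0
    have hfac : (m + (j + 1)).factorial = (m + j + 1) * (m + j).factorial := by
      rw [← add_assoc, Nat.factorial_succ]
    have key : d * 2 ^ (j + 1) * m.factorial ≤ (2 * c) * ((m + j).factorial * D) := by
      calc d * 2 ^ (j + 1) * m.factorial ≤ (c * e) * 2 ^ (j + 1) * m.factorial := by gcongr
        _ = (2 * c) * (e * 2 ^ j * m.factorial) := by ring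
        _ ≤ _ := Nat.mul_le_mul_left _ h1
    refine ⟨?_, ?_⟩
    · calc _ ≤ _ := key
        _ ≤ (m + j + 1) * ((m + j).factorial * D) := Nat.mul_le_mul_right _ h2c
        _ = _ := by rw [hfac]; ring
    · intro h7 _
      have h2c' : 2 * c < m + j + 1 := by
        by_contra hcon
        push Not at hcon
        nlinarith
      calc _ ≤ _ := key
        _ < (m + j + 1) * ((m + j).factorial * D) := Nat.mul_lt_mul_of_pos_right h2c' hpos
        _ = _ := by rw [hfac]; ring

/-- **Task 870.** -/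
theorem alt_elim {n m k : ℕ} (hm : 5 ≤ m) (hmn : m < n) (hk : aN n = k * aN m)
    (hd : ∀ e, ADeg m e → ADeg n (k * e)) : False := by
  classical
  -- `A_m` has a character of degree `m - 1`
  have hm1 : ADeg m (m - 1) := by
    obtain ⟨ψ, hψ, hψ1⟩ := H621.SymDeg.alt_irr hm (MulEquiv.refl ↥(alternatingGroup (Fin m)))
    have hcd : charDegree ψ = m - 1 := by
      have h1 := charDegree_cast (isIrr_isCharacter hψ)
      rw [hψ1] at h1
      exact_mod_cast h1
    refine ⟨⟨ψ, hψ⟩, ?_, hcd⟩
    intro h1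
    have h2 : ψ 1 = 1 := congrFun h1 1
    rw [hψ1] at h2
    have h3 : m - 1 = 1 := by exact_mod_cast h2
    omega
  -- the largest degree
  have hbdd : ∀ d, ADeg m d → d ≤ aN m := fun d h => by
    obtain ⟨h1, h2, -, -⟩ := h.facts hm
    nlinarith
  set e0 := Nat.findGreatest (fun d => ADeg m d) (aN m) with he0
  have hA : ADeg m e0 := Nat.findGreatest_spec (P := fun d => ADeg m d) (hbdd _ hm1) hm1
  have hmax : ∀ d, ADeg m d → d ≤ e0 := fun d h => Nat.le_findGreatest (hbdd d h) h
  have he1 : 1 < e0 := (hA.facts hm).1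
  have hD : ∀ e, IsDeg m e → e ≤ 2 * e0 := by
    intro e he
    by_cases h2 : 2 < e
    · obtain ⟨d, h3, h4⟩ := exists_adeg_of_isDeg hm h2 he
      exact h4.trans (Nat.mul_le_mul_left _ (hmax d h3))
    · omega
  obtain ⟨j, rfl⟩ : ∃ j, n = m + j := ⟨n - m, by omega⟩
  have hj : 1 ≤ j := by omega
  -- `k = n! / m!`
  have hkf : (m + j).factorial = k * m.factorial := by
    have h1 := two_mul_aN (n := m) (by omega)
    have h2 := two_mul_aN (n := m + j) (by omega)
    rw [← h1, ← h2, hk]
    ring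
  have hk0 : 0 < k := by
    rcases Nat.eq_zero_or_pos k with h | h
    · rw [h, zero_mul] at hkf
      exact absurd hkf (Nat.factorial_pos _).ne'
    · exact h
  have hmf := Nat.factorial_pos m
  have hB := (hd e0 hA).facts (by omega)
  obtain ⟨-, -, -, hB⟩ := hB
  obtain ⟨E, hE, hkE⟩ : ∃ E, IsDeg (m + j) E ∧ k * e0 ≤ E := by
    rcases hB with h | h
    · exact ⟨_, h, le_rfl⟩
    · exact ⟨_, h, by omega⟩
  obtain ⟨h1, h2⟩ := deg_bound hm hD (by omega) j E hE
  rw [hkf] at h1 h2
  have h3 : k * e0 * m.factorial * 2 ^ j ≤ E * 2 ^ j * m.factorial := by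
    calc k * e0 * m.factorial * 2 ^ j = (k * e0) * 2 ^ j * m.factorial := by ring
      _ ≤ _ := by gcongr
  have hpos : 0 < k * e0 * m.factorial := Nat.mul_pos (Nat.mul_pos hk0 (by omega)) hmf
  have h4 : k * e0 * m.factorial * 2 ^ j ≤ k * e0 * m.factorial * 2 := by
    calc _ ≤ _ := h3
      _ ≤ k * m.factorial * (2 * e0) := h1
      _ = _ := by ring
  have h5 : 2 ^ j ≤ 2 := Nat.le_of_mul_le_mul_left h4 hpos
  have hj1 : j = 1 := by
    by_contra hne
    have h6 : 2 ≤ j := by omega
    have h7 := Nat.pow_le_pow_right (n := 2) (by norm_num) h6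
    omega
  subst hj1
  by_cases h7 : 7 ≤ m + 1
  · have h8 := h2 h7 le_rfl
    have h9 : k * e0 * m.factorial * 2 < k * e0 * m.factorial * 2 := by
      calc k * e0 * m.factorial * 2 = k * e0 * m.factorial * 2 ^ 1 := by ring
        _ ≤ _ := h3
        _ < k * m.factorial * (2 * e0) := h8
        _ = _ := by ring
    exact lt_irrefl _ h9
  · have hm5 : m = 5 := by omega
    subst hm5
    have hk6 : k = 6 := by
      have h8 : Nat.factorial (5 + 1) = 720 := rfl
      have h9 : Nat.factorial 5 = 120 := rfl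
      rw [h8, h9] at hkf
      omega
    subst hk6
    have h10 := (hd _ hm1).facts (by norm_num)
    obtain ⟨-, -, -, h10⟩ := h10
    rcases h10 with h | h
    · have := H704.deg6 h
      revert this
      decide
    · have := H704.deg6 h
      revert this
      decide

end Cfsg.Agent.H462.Cod
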