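import Mathlib
import Cfsg.Agent.H495.Cod.Kernel
import Cfsg.Agent.H704.Enum
import Cfsg.Agent.Characters.Galois
import Cfsg.Agent.Characters.GaloisBasic

/-!
# Task 873 (helper495, S4941): no group `3.A_6`, `3.A_7` has only degrees `3 d`, `d` a degree of `A_n`, over the centre
-/

set_option autoImplicit false
set_option linter.unusedSectionVars false

universe u

namespace Cfsg.Agent.H462.Cod

open Cfsg Cfsg.Agent.Characters.Core Cfsg.Agent.H686.CharKit Cfsg.Agent.H495.Cod Subgroup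
open Cfsg.Agent.H704 (IsDeg)

/-! ### Values at elements of order five -/

/-- If `x ^ 5 = 1` and `χ (x ^ j) = χ x` for `j = 1, …, 4`, then `χ x` is an integer congruent to `χ 1` modulo `5`. -/
theorem int_value {G : Type u} [Group G] [Finite G] {χ : G → ℂ} (hχ : IsCharacter G χ) {x : G} (hx : x ^ 5 = 1)
    (h : ∀ j : ℕ, 1 ≤ j → j ≤ 4 → χ (x ^ j) = χ x) : ∃ t : ℤ, χ x = t ∧ (5 : ℤ) ∣ t - (charDegree χ : ℤ) := by
  have hχ' := hχ
  obtain ⟨n, ρ, rfl⟩ := hχ
  have hζ := Complex.isPrimitiveRoot_exp 5 (by norm_num)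
  set ζ := Complex.exp (2 * Real.pi * Complex.I / (5 : ℕ)) with hζd
  obtain ⟨d, hd⟩ := Cfsg.Agent.Characters.Galois.exists_nat_coeffs ρ x (by norm_num) hx hζ
  have hsum : ∑ m ∈ Finset.range 5, ρ.character (x ^ m) = 5 * (d 0 : ℂ) := by
    simp only [hd]
    rw [Finset.sum_comm]
    have h1 : ∀ j ∈ Finset.range 5, ∑ m ∈ Finset.range 5, (d j : ℂ) * ζ ^ (j * m) = if j = 0 then 5 * (d 0 : ℂ) else 0 := by
      intro j hj
      rw [Finset.mem_range] at hj
      rw [← Finset.mul_sum]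
      split_ifs with h0
      · subst h0
        simp
        ring
      · have h2 : ∑ m ∈ Finset.range 5, ζ ^ (j * m) = 0 := by
          have h3 : IsPrimitiveRoot (ζ ^ j) 5 := by
            apply hζ.pow_of_coprime
            interval_cases j <;> first | exact absurd rfl h0 | decide
          have h4 := h3.geom_sum_eq_zero (by norm_num)
          rw [← h4]
          refine Finset.sum_congr rfl fun m _ => ?_
          rw [pow_mul]
        rw [h2, mul_zero]
    rw [Finset.sum_congr rfl h1]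
    simp
  have hcd := charDegree_cast hχ'
  have hsum' : ρ.character 1 + 4 * ρ.character x = 5 * (d 0 : ℂ) := by
    rw [← hsum]
    simp only [Finset.sum_range_succ, Finset.sum_range_zero, pow_zero, zero_add]
    rw [h 1 le_rfl (by norm_num), h 2 (by norm_num) (by norm_num), h 3 (by norm_num) (by norm_num),
      h 4 (by norm_num) le_rfl]
    ring
  rw [← hcd] at hsum'
  obtain ⟨t, ht⟩ := Cfsg.Agent.Characters.GaloisBasic.exists_int_of_rat hχ' x
    ⟨(5 * (d 0 : ℚ) - (charDegree ρ.character : ℚ)) / 4, by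
      push_cast
      rw [← hsum']
      ring⟩
  refine ⟨t, ht, ?_⟩
  rw [ht] at hsum'
  have h5 : (charDegree ρ.character : ℤ) + 4 * t = 5 * (d 0 : ℤ) := by exact_mod_cast hsum'
  omega

/-! ### A five-cycle in `A_7` -/

/-- the five-cycle `(0 1 2 3 4)` -/
def c5 : Equiv.Perm (Fin 7) where
  toFun := ![1, 2, 3, 4, 0, 5, 6]
  invFun := ![4, 0, 1, 2, 3, 5, 6]
  left_inv := by decide
  right_inv := by decide

/-- conjugates `c5` to its square -/
def h5 : Equiv.Perm (Fin 7) where
  toFun := ![0, 2, 4, 1, 3, 6, 5]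
  invFun := ![0, 3, 1, 4, 2, 6, 5]
  left_inv := by decide
  right_inv := by decide

theorem sign_c5 : Equiv.Perm.sign c5 = 1 := by decide +kernel

theorem sign_h5 : Equiv.Perm.sign h5 = 1 := by decide +kernel

theorem h5_conj : h5 * c5 * h5⁻¹ = c5 ^ 2 := by
  rw [mul_inv_eq_iff_eq_mul]
  ext i
  fin_cases i <;> rfl

theorem c5_pow : c5 ^ 5 = 1 := by
  ext i
  fin_cases i <;> rfl

theorem cent_c5 (g : Equiv.Perm (Fin 7)) (hg : g * c5 = c5 * g) (hs : Equiv.Perm.sign g = 1) :
    ∃ k : Fin 5, g = c5 ^ (k : ℕ) := by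
  have hg' : ∀ i, g (c5 i) = c5 (g i) := fun i => by
    rw [← Equiv.Perm.mul_apply, hg, Equiv.Perm.mul_apply]
  have hfix : ∀ b : Fin 7, c5 b = b → b = 5 ∨ b = 6 := by decide
  have hmov : ∀ a : Fin 7, c5 a ≠ a → ∃ k : Fin 5, a = (c5 ^ (k : ℕ)) 0 := by decide
  have h5 := hfix (g 5) (hg' 5).symm
  have h6 := hfix (g 6) (hg' 6).symm
  have h56 : g 5 ≠ g 6 := fun h => absurd (g.injective h) (by decide)
  obtain ⟨k, hk⟩ := hmov (g 0) (by
    rw [← hg']
    intro h
    exact absurd (g.injective h) (by decide))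
  refine ⟨k, ?_⟩
  have h1 : g 1 = c5 (g 0) := hg' 0
  have h2 : g 2 = c5 (g 1) := hg' 1
  have h3 : g 3 = c5 (g 2) := hg' 2
  have h4 : g 4 = c5 (g 3) := hg' 3
  have hk1 : ∀ k : Fin 5, c5 ((c5 ^ (k : ℕ)) 0) = (c5 ^ (k : ℕ)) 1 := by decide
  have hk2 : ∀ k : Fin 5, c5 ((c5 ^ (k : ℕ)) 1) = (c5 ^ (k : ℕ)) 2 := by decide
  have hk3 : ∀ k : Fin 5, c5 ((c5 ^ (k : ℕ)) 2) = (c5 ^ (k : ℕ)) 3 := by decide
  have hk4 : ∀ k : Fin 5, c5 ((c5 ^ (k : ℕ)) 3) = (c5 ^ (k : ℕ)) 4 := by decide
  have hk5 : ∀ k : Fin 5, (c5 ^ (k : ℕ)) 5 = 5 := by decide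
  have hk6 : ∀ k : Fin 5, (c5 ^ (k : ℕ)) 6 = 6 := by decide
  rw [hk, hk1] at h1
  rw [h1, hk2] at h2
  rw [h2, hk3] at h3
  rw [h3, hk4] at h4
  have h5' : g 5 = 5 := by
    rcases h5 with h | h
    · exact h
    · exfalso
      have h6' : g 6 = 5 := by
        rcases h6 with h' | h'
        · exact h'
        · exact absurd (h.trans h'.symm) h56
      have hgs : g = c5 ^ (k : ℕ) * Equiv.swap 5 6 := by
        ext i
        rw [Equiv.Perm.mul_apply]
        fin_cases i
        · rw [show (Equiv.swap (5 : Fin 7) 6) ((fun i => i) ⟨0, by decide⟩) = 0 from by decide]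
          exact congrArg Fin.val hk
        · rw [show (Equiv.swap (5 : Fin 7) 6) ((fun i => i) ⟨1, by decide⟩) = 1 from by decide]
          exact congrArg Fin.val h1
        · rw [show (Equiv.swap (5 : Fin 7) 6) ((fun i => i) ⟨2, by decide⟩) = 2 from by decide]
          exact congrArg Fin.val h2
        · rw [show (Equiv.swap (5 : Fin 7) 6) ((fun i => i) ⟨3, by decide⟩) = 3 from by decide]
          exact congrArg Fin.val h3
        · rw [show (Equiv.swap (5 : Fin 7) 6) ((fun i => i) ⟨4, by decide⟩) = 4 from by decide]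
          exact congrArg Fin.val h4
        · rw [show (Equiv.swap (5 : Fin 7) 6) ((fun i => i) ⟨5, by decide⟩) = 6 from by decide, hk6]
          exact congrArg Fin.val h
        · rw [show (Equiv.swap (5 : Fin 7) 6) ((fun i => i) ⟨6, by decide⟩) = 5 from by decide, hk5]
          exact congrArg Fin.val h6'
      rw [hgs, map_mul, map_pow, sign_c5, one_pow, one_mul, Equiv.Perm.sign_swap (by decide)] at hs
      exact absurd hs (by decide)
  have h6' : g 6 = 6 := by
    rcases h6 with h | h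
    · exact absurd (h5'.trans h.symm) h56
    · exact h
  ext i
  fin_cases i
  · exact congrArg Fin.val hk
  · exact congrArg Fin.val h1
  · exact congrArg Fin.val h2
  · exact congrArg Fin.val h3
  · exact congrArg Fin.val h4
  · exact congrArg Fin.val (h5'.trans (hk5 k).symm)
  · exact congrArg Fin.val (h6'.trans (hk6 k).symm)

/-- The elements `c5`, `h5` of `A_7`. -/
theorem exists_alt7 : ∃ c h : ↥(alternatingGroup (Fin 7)), c ^ 5 = 1 ∧ c ≠ 1 ∧ h * c * h⁻¹ = c ^ 2 ∧
    Nat.card (centralizer ({c} : Set ↥(alternatingGroup (Fin 7)))) ≤ 5 := by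
  refine ⟨⟨c5, Equiv.Perm.mem_alternatingGroup.2 sign_c5⟩, ⟨h5, Equiv.Perm.mem_alternatingGroup.2 sign_h5⟩,
    Subtype.ext c5_pow, ?_, Subtype.ext h5_conj, ?_⟩
  · intro h
    have h1 : c5 = 1 := congrArg Subtype.val h
    have h2 : c5 0 = 0 := by rw [h1]; rfl
    exact absurd h2 (by decide)
  · have hsurj : Function.Surjective (fun k : Fin 5 =>
        (⟨⟨c5, Equiv.Perm.mem_alternatingGroup.2 sign_c5⟩ ^ (k : ℕ), by
          rw [mem_centralizer_singleton_iff]
          exact (Commute.pow_self _ _).eq⟩ :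
          centralizer ({⟨c5, Equiv.Perm.mem_alternatingGroup.2 sign_c5⟩} : Set ↥(alternatingGroup (Fin 7))))) := by
      rintro ⟨g, hg⟩
      rw [mem_centralizer_singleton_iff] at hg
      obtain ⟨k, hk⟩ := cent_c5 g (congrArg Subtype.val hg) (Equiv.Perm.mem_alternatingGroup.1 g.2)
      exact ⟨k, Subtype.ext (Subtype.ext hk.symm)⟩
    have := Nat.card_le_card_of_surjective _ hsurj
    simpa using this

/-! ### The lift to a central extension by a group of order three -/

section Main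

variable {G : Type u} [Group G] [Finite G]

/-- The element of order five of `G`. -/
theorem exists_lift (M : Subgroup G) [hM : M.Normal] (e : G ⧸ M ≃* alternatingGroup (Fin 7)) (hMc : M ≤ center G)
    (hcard : Nat.card M = 3) : ∃ x : G, x ^ 5 = 1 ∧ (∀ j : ℕ, 1 ≤ j → j ≤ 4 → IsConj (x ^ j) x) ∧
      Nat.card (centralizer ({x} : Set G)) ≤ 15 ∧ 5 ≤ Nat.card (centralizer ({(x : G ⧸ M)} : Set (G ⧸ M))) := by
  obtain ⟨c, h, hc5, hc1, hh, hcc⟩ := exists_alt7
  obtain ⟨y, hy⟩ := QuotientGroup.mk_surjective (e.symm c)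
  obtain ⟨k, hk⟩ := QuotientGroup.mk_surjective (e.symm h)
  have h3 : ∀ m ∈ M, m ^ 3 = 1 := by
    intro m hm
    have h1 : (⟨m, hm⟩ : M) ^ Nat.card M = 1 := pow_card_eq_one'
    rw [hcard] at h1
    exact congrArg Subtype.val h1
  have hy5 : y ^ 5 ∈ M := by
    rw [← QuotientGroup.eq_one_iff, QuotientGroup.mk_pow, hy, ← map_pow, hc5, map_one]
  set x := y ^ 6 with hx
  have hx5 : x ^ 5 = 1 := by
    have h1 := h3 _ hy5
    calc x ^ 5 = (((y ^ 5) ^ 3)) ^ 2 := by rw [hx, ← pow_mul, ← pow_mul, ← pow_mul]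
      _ = 1 := by rw [h1, one_pow]
  have hxc : (x : G ⧸ M) = e.symm c := by
    rw [hx, QuotientGroup.mk_pow, hy, ← map_pow]
    congr 1
    rw [show (6 : ℕ) = 5 + 1 from rfl, pow_succ, hc5, one_mul]
  -- `k x k⁻¹ = x ^ 2`
  have hkx : k * x * k⁻¹ = x ^ 2 := by
    have h0 : ((x ^ 2 : G) : G ⧸ M) = ((k * x * k⁻¹ : G) : G ⧸ M) := by
      rw [QuotientGroup.mk_pow, QuotientGroup.mk_mul, QuotientGroup.mk_mul, QuotientGroup.mk_inv, hxc, hk,
        ← map_pow, ← hh, map_mul, map_mul, map_inv]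
    have h1 : (x ^ 2)⁻¹ * (k * x * k⁻¹) ∈ M := QuotientGroup.eq.1 h0
    obtain ⟨m, hm⟩ : ∃ m, m = (x ^ 2)⁻¹ * (k * x * k⁻¹) := ⟨_, rfl⟩
    rw [← hm] at h1
    have h2 : k * x * k⁻¹ = x ^ 2 * m := by rw [hm, mul_inv_cancel_left]
    have hmc : ∀ g : G, g * m = m * g := fun g => Subgroup.mem_center_iff.1 (hMc h1) g
    have h4 : (k * x * k⁻¹) ^ 5 = 1 := by
      rw [conj_pow, hx5, mul_one, mul_inv_cancel]
    have h5' : (x ^ 2 * m) ^ 5 = (x ^ 2) ^ 5 * m ^ 5 := (show Commute (x ^ 2) m from hmc _).mul_pow 5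
    have h6 : m ^ 5 = 1 := by
      rw [h2, h5', ← pow_mul, mul_comm 2 5, pow_mul, hx5, one_pow, one_mul] at h4
      exact h4
    have h7 : m = 1 := by
      have h8 := h3 m h1
      have h9 : m = (m ^ 3) ^ 2 * (m ^ 5)⁻¹ := by
        rw [← pow_mul, show 3 * 2 = 1 + 5 from rfl, pow_add, pow_one, mul_inv_cancel_right]
      rw [h9, h8, h6]
      simp
    rw [h2, h7, mul_one]
  have hconj : ∀ j : ℕ, IsConj (x ^ j) (x ^ (2 * j)) := by
    intro j
    rw [isConj_iff]
    refine ⟨k, ?_⟩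
    rw [← conj_pow, hkx, ← pow_mul]
  refine ⟨x, hx5, ?_, ?_, ?_⟩
  · have h1 : IsConj x (x ^ 2) := by simpa using hconj 1
    have h2 : IsConj (x ^ 2) (x ^ 4) := hconj 2
    have h4 : IsConj (x ^ 4) (x ^ 3) := by
      have := hconj 4
      rwa [show 2 * 4 = 5 + 3 from rfl, pow_add x 5 3, hx5, one_mul] at this
    intro j hj1 hj4
    interval_cases j
    · rw [pow_one]
    · exact h1.symm
    · exact ((h1.trans h2).trans h4).symm
    · exact (h1.trans h2).symm
  · -- the centraliser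
    have h1 : (centralizer ({x} : Set G)).map (QuotientGroup.mk' M) ≤ centralizer ({(x : G ⧸ M)} : Set (G ⧸ M)) := by
      rintro _ ⟨g, hg, rfl⟩
      rw [SetLike.mem_coe, mem_centralizer_singleton_iff] at hg
      rw [mem_centralizer_singleton_iff, QuotientGroup.mk'_apply, ← QuotientGroup.mk_mul, hg, QuotientGroup.mk_mul]
    have h2 : Nat.card (centralizer ({(x : G ⧸ M)} : Set (G ⧸ M))) ≤ 5 := by
      refine le_trans ?_ hcc
      refine Nat.card_le_card_of_injective (fun g => (⟨e g.1, ?_⟩ : centralizer ({c} : Set ↥(alternatingGroup (Fin 7))))) ?_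
      · have h5' := mem_centralizer_singleton_iff.1 g.2
        rw [mem_centralizer_singleton_iff]
        have h6 : e (x : G ⧸ M) = c := by rw [hxc, MulEquiv.apply_symm_apply]
        rw [← h6, ← map_mul, h5', map_mul]
      · intro a b hab
        exact Subtype.ext (e.injective (congrArg Subtype.val hab))
    have h4 := Subgroup.card_eq_card_quotient_mul_card_subgroup ((M).subgroupOf (centralizer ({x} : Set G)))
    have h5' : Nat.card (M.subgroupOf (centralizer ({x} : Set G))) ≤ 3 := by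
      rw [← hcard]
      exact Nat.card_le_card_of_injective (fun a => (⟨a.1.1, Subgroup.mem_subgroupOf.1 a.2⟩ : M))
        fun a b hab => Subtype.ext (Subtype.ext (congrArg (fun z : M => (z : G)) hab))
    have h6 : Nat.card (↥(centralizer ({x} : Set G)) ⧸ M.subgroupOf (centralizer ({x} : Set G))) ≤ 5 := by
      refine le_trans ?_ h2
      rw [← Subgroup.index_eq_card]
      have h7 : (M.subgroupOf (centralizer ({x} : Set G))) =
          ((QuotientGroup.mk' M).comp (centralizer ({x} : Set G)).subtype).ker := by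
        ext g
        rw [Subgroup.mem_subgroupOf, MonoidHom.mem_ker, MonoidHom.comp_apply, QuotientGroup.mk'_apply,
          QuotientGroup.eq_one_iff]
        rfl
      rw [h7, Subgroup.index_ker]
      refine Subgroup.card_le_of_le ?_
      rintro _ ⟨g, rfl⟩
      exact h1 ⟨g.1, g.2, rfl⟩
    rw [h4]
    calc _ ≤ 5 * 3 := Nat.mul_le_mul h6 h5'
      _ = 15 := rfl
  · have h1 : orderOf (x : G ⧸ M) = 5 := by
      have : Fact (Nat.Prime 5) := ⟨by norm_num⟩
      apply orderOf_eq_prime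
      · rw [← QuotientGroup.mk_pow, hx5]; rfl
      · rw [hxc]
        intro h0
        apply hc1
        rw [← e.apply_symm_apply c, h0, map_one]
    have h2 : zpowers (x : G ⧸ M) ≤ centralizer ({(x : G ⧸ M)} : Set (G ⧸ M)) := by
      rw [zpowers_le, mem_centralizer_singleton_iff]
    rw [← h1, ← Nat.card_zpowers]
    exact Subgroup.card_le_of_le h2

/-- the sum of the squares of the values of the characters with `N` in the kernel -/
theorem sum_normSq_ker (N : Subgroup G) [N.Normal] [Fintype (IrrCharacter G)]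
    [DecidablePred fun χ : IrrCharacter G => N ≤ chKer χ] (x : G) :
    ∑ χ ∈ (Finset.univ.filter fun χ : IrrCharacter G => N ≤ chKer χ), Complex.normSq ((χ : G → ℂ) x) =
      (Nat.card (centralizer ({(x : G ⧸ N)} : Set (G ⧸ N))) : ℝ) := by
  classical
  have := finite_irr (G := G ⧸ N)
  have := Fintype.ofFinite (IrrCharacter (G ⧸ N))
  rw [← sum_normSq (G := G ⧸ N)]
  symm
  refine Finset.sum_bij (fun ψ _ => infl N ψ) ?_ ?_ ?_ ?_
  · intro ψ _
    rw [Finset.mem_filter]
    exact ⟨Finset.mem_univ _, le_chKer_infl N ψ⟩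
  · intro a _ b _ hab
    exact infl_injective N hab
  · intro χ hχ
    obtain ⟨ψ, hψ⟩ := exists_infl N χ (Finset.mem_filter.1 hχ).2
    exact ⟨ψ, Finset.mem_univ _, hψ⟩
  · intro ψ _
    rw [infl_apply]

/-! ### The combinatorics -/

theorem comb6 {ι : Type*} (s : Finset ι) (d : ι → ℕ) (h : ∀ i ∈ s, d i ∈ [5, 8, 9, 10]) :
    ∃ a b c e : ℕ, ∑ i ∈ s, d i ^ 2 = 25 * a + 64 * b + 81 * c + 100 * e := by
  classical
  induction s using Finset.induction_on with
  | empty => exact ⟨0, 0, 0, 0, rfl⟩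
  | insert i s his ih =>
    obtain ⟨a, b, c, e, h1⟩ := ih fun j hj => h j (Finset.mem_insert_of_mem hj)
    have h2 := h i (Finset.mem_insert_self i s)
    rw [Finset.sum_insert his, h1]
    simp only [List.mem_cons, List.not_mem_nil, or_false] at h2
    rcases h2 with h2 | h2 | h2 | h2 <;> rw [h2]
    · exact ⟨a + 1, b, c, e, by ring⟩
    · exact ⟨a, b + 1, c, e, by ring⟩
    · exact ⟨a, b, c + 1, e, by ring⟩
    · exact ⟨a, b, c, e + 1, by ring⟩

theorem comb7 {ι : Type*} (s : Finset ι) (d : ι → ℕ) (t : ι → ℤ) (h : ∀ i ∈ s, d i ∈ [3, 6, 7, 10, 14, 15, 20, 21, 35])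
    (ht : ∀ i ∈ s, (5 : ℤ) ∣ t i - 3 * (d i : ℤ)) :
    ∃ a b c e f g k l m : ℕ, ∑ i ∈ s, d i ^ 2 =
      9 * a + 36 * b + 49 * c + 100 * e + 196 * f + 225 * g + 400 * k + 441 * l + 1225 * m ∧
      (a + 4 * b + c + 4 * f + 4 * l : ℤ) ≤ ∑ i ∈ s, t i ^ 2 := by
  classical
  induction s using Finset.induction_on with
  | empty => exact ⟨0, 0, 0, 0, 0, 0, 0, 0, 0, rfl, by simp⟩
  | insert i s his ih =>
    obtain ⟨a, b, c, e, f, g, k, l, m, h1, h3⟩ := ih (fun j hj => h j (Finset.mem_insert_of_mem hj))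
      (fun j hj => ht j (Finset.mem_insert_of_mem hj))
    have h2 := h i (Finset.mem_insert_self i s)
    have h4 := ht i (Finset.mem_insert_self i s)
    rw [Finset.sum_insert his, h1, Finset.sum_insert his]
    simp only [List.mem_cons, List.not_mem_nil, or_false] at h2
    have hsq : 0 ≤ t i ^ 2 := sq_nonneg _
    have hone : ¬ (5 : ℤ) ∣ t i → 1 ≤ t i ^ 2 := by
      intro h0
      have : t i ≠ 0 := fun h5 => h0 (by rw [h5]; exact dvd_zero _)
      have := sq_pos_of_ne_zero this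
      omega
    have hfour : (¬ (5 : ℤ) ∣ t i) → (¬ (5 : ℤ) ∣ t i - 1) → (¬ (5 : ℤ) ∣ t i + 1) → 4 ≤ t i ^ 2 := by
      intro h0 h5 h6
      have h7 : t i ≠ 0 := fun h5 => h0 (by rw [h5]; exact dvd_zero _)
      have h8 : t i ≠ 1 := fun h9 => h5 (by rw [h9]; exact dvd_zero _)
      have h9 : t i ≠ -1 := fun h9 => h6 (by rw [h9]; exact dvd_zero _)
      have h10 : 2 ≤ t i ∨ t i ≤ -2 := by omega
      rcases h10 with h10 | h10 <;> nlinarith
    rcases h2 with h2 | h2 | h2 | h2 | h2 | h2 | h2 | h2 | h2 <;> rw [h2] at h4 ⊢ <;> push_cast at h4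
    · have := hone (by omega)
      exact ⟨a + 1, b, c, e, f, g, k, l, m, by ring, by push_cast; linarith⟩
    · have := hfour (by omega) (by omega) (by omega)
      exact ⟨a, b + 1, c, e, f, g, k, l, m, by ring, by push_cast; linarith⟩
    · have := hone (by omega)
      exact ⟨a, b, c + 1, e, f, g, k, l, m, by ring, by push_cast; linarith⟩
    · exact ⟨a, b, c, e + 1, f, g, k, l, m, by ring, by push_cast; linarith⟩
    · have := hfour (by omega) (by omega) (by omega)
      exact ⟨a, b, c, e, f + 1, g, k, l, m, by ring, by push_cast; linarith⟩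
    · exact ⟨a, b, c, e, f, g + 1, k, l, m, by ring, by push_cast; linarith⟩
    · exact ⟨a, b, c, e, f, g, k + 1, l, m, by ring, by push_cast; linarith⟩
    · have := hfour (by omega) (by omega) (by omega)
      exact ⟨a, b, c, e, f, g, k, l + 1, m, by ring, by push_cast; linarith⟩
    · exact ⟨a, b, c, e, f, g, k, l, m + 1, by ring, by push_cast; linarith⟩

theorem adeg6 {d : ℕ} (h : ADeg 6 d) : d ∈ [5, 8, 9, 10] := by
  obtain ⟨h1, h2, h3, h4⟩ := h.facts (by norm_num)
  have hN : aN 6 = 360 := by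
    have := two_mul_aN (n := 6) (by norm_num)
    have h5 : Nat.factorial 6 = 720 := rfl
    omega
  rw [hN] at h2 h3
  rcases h4 with h4 | h4
  · have h5 := H704.deg6 h4
    simp only [List.mem_cons, List.not_mem_nil, or_false] at h5 ⊢
    rcases h5 with rfl | rfl | rfl | rfl | rfl
    · omega
    · omega
    · omega
    · omega
    · exact absurd h3 (by decide)
  · have h5 := H704.deg6 h4
    simp only [List.mem_cons, List.not_mem_nil, or_false] at h5 ⊢
    omega

theorem adeg7 {d : ℕ} (h : ADeg 7 d) : d ∈ [3, 6, 7, 10, 14, 15, 20, 21, 35] := by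
  obtain ⟨h1, h2, h3, h4⟩ := h.facts (by norm_num)
  rcases h4 with h4 | h4
  · have h5 := H704.deg7 h4
    simp only [List.mem_cons, List.not_mem_nil, or_false] at h5 ⊢
    omega
  · have h5 := H704.deg7 h4
    simp only [List.mem_cons, List.not_mem_nil, or_false] at h5 ⊢
    omega

theorem fin7 : ∀ (m : Fin 2) (l : Fin 2) (k : Fin 3) (g : Fin 3) (f : Fin 6) (c : Fin 11) (b : Fin 3) (a : Fin 11),
    ¬ ((a : ℕ) + 4 * b + c + 4 * g + 4 * m ≤ 10 ∧
      9 * (a : ℕ) + 36 * b + 49 * c + 100 * f + 196 * g + 225 * k + 400 * l + 441 * m = 560) := by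
  decide +kernel

theorem central_three_aux {n : ℕ} (hn : n = 6 ∨ n = 7) (M : Subgroup G) [hM : M.Normal]
    (e : G ⧸ M ≃* alternatingGroup (Fin n)) (hMc : M ≤ center G) (hcard : Nat.card M = 3)
    (hab : ∀ χ : IrrCharacter G, ¬ M ≤ chKer χ → ∃ d : ℕ, ADeg n d ∧ charDegree (χ : G → ℂ) = Nat.card M * d) :
    False := by
  classical
  have := finite_irr (G := G)
  have := Fintype.ofFinite (IrrCharacter G)
  set T := Finset.univ.filter fun χ : IrrCharacter G => ¬ M ≤ chKer χ with hT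
  have hsum := sum_over M e
  have hd : ∀ χ : IrrCharacter G, ∃ d : ℕ, χ ∈ T → ADeg n d ∧ charDegree (χ : G → ℂ) = 3 * d := by
    intro χ
    by_cases hχ : χ ∈ T
    · obtain ⟨d, h1, h2⟩ := hab χ (Finset.mem_filter.1 hχ).2
      exact ⟨d, fun _ => ⟨h1, by rw [h2, hcard]⟩⟩
    · exact ⟨0, fun h => absurd h hχ⟩
  choose d hd using hd
  rw [hcard] at hsum
  have hsum2 : 9 * ∑ χ ∈ T, d χ ^ 2 = aN n * (3 - 1) := by
    rw [Finset.mul_sum, ← hsum]
    refine Finset.sum_congr rfl fun χ hχ => ?_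
    rw [(hd χ hχ).2]
    ring
  rcases hn with rfl | rfl
  · have hN : aN 6 = 360 := by
      have := two_mul_aN (n := 6) (by norm_num)
      have h5 : Nat.factorial 6 = 720 := rfl
      omega
    obtain ⟨a, b, c, f, h1⟩ := comb6 T d fun χ hχ => adeg6 (hd χ hχ).1
    rw [h1, hN] at hsum2
    have h2 : 25 * a + 64 * b + 81 * c + 100 * f = 80 := by omega
    have hb : b ≤ 1 := by omega
    have hc : c = 0 := by omega
    have hf : f = 0 := by omega
    subst hc hf
    interval_cases b <;> omega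
  · have hN : aN 7 = 2520 := by
      have := two_mul_aN (n := 7) (by norm_num)
      have h5 : Nat.factorial 7 = 5040 := rfl
      omega
    obtain ⟨x, hx5, hxc, hc1, hc2⟩ := exists_lift M e hMc hcard
    have ht : ∀ χ : IrrCharacter G, ∃ t : ℤ, (χ : G → ℂ) x = t ∧ (5 : ℤ) ∣ t - (charDegree (χ : G → ℂ) : ℤ) := by
      intro χ
      refine int_value (isIrr_isCharacter χ.2) hx5 ?_
      intro j h1 h4
      obtain ⟨g, hg⟩ := isConj_iff.1 (hxc j h1 h4)
      rw [← isIrr_isClassFunction χ.2 (x ^ j) g, hg]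
    choose t ht ht5 using ht
    obtain ⟨a, b, c, f, g, k, l, m, o, h1, h2⟩ := comb7 T d t (fun χ hχ => adeg7 (hd χ hχ).1) (fun χ hχ => by
      have h3 := ht5 χ
      rw [(hd χ hχ).2] at h3
      push_cast at h3
      exact h3)
    rw [h1, hN] at hsum2
    have h3 : ∑ χ ∈ T, t χ ^ 2 ≤ 10 := by
      have h4 := sum_normSq (G := G) x
      rw [← Finset.sum_filter_add_sum_filter_not Finset.univ (fun χ : IrrCharacter G => M ≤ chKer χ),
        sum_normSq_ker M] at h4
      have h5 : ∑ χ ∈ T, Complex.normSq ((χ : G → ℂ) x) = ((∑ χ ∈ T, t χ ^ 2 : ℤ) : ℝ) := by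
        push_cast
        refine Finset.sum_congr rfl fun χ _ => ?_
        rw [ht χ, Complex.normSq_intCast]
        ring
      rw [h5] at h4
      have h6 : (Nat.card (centralizer ({x} : Set G)) : ℝ) ≤ 15 := by exact_mod_cast hc1
      have h7 : (5 : ℝ) ≤ (Nat.card (centralizer ({(x : G ⧸ M)} : Set (G ⧸ M))) : ℝ) := by exact_mod_cast hc2
      have h8 : ((∑ χ ∈ T, t χ ^ 2 : ℤ) : ℝ) ≤ ((10 : ℤ) : ℝ) := by
        push_cast
        push_cast at h4
        linarith
      exact_mod_cast h8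
    have h9 : (a + 4 * b + c + 4 * g + 4 * m : ℤ) ≤ 10 := h2.trans h3
    have h10 : a + 4 * b + c + 4 * g + 4 * m ≤ 10 := by exact_mod_cast h9
    have h11 : 9 * a + 36 * b + 49 * c + 100 * f + 196 * g + 225 * k + 400 * l + 441 * m + 1225 * o = 560 := by omega
    clear hsum2 h1 h2 h3 h9
    have key := fin7
    have ho : o = 0 := by omega
    subst ho
    refine key ⟨m, by omega⟩ ⟨l, by omega⟩ ⟨k, by omega⟩ ⟨g, by omega⟩ ⟨f, by omega⟩ ⟨c, by omega⟩ ⟨b, by omega⟩
      ⟨a, by omega⟩ ⟨h10, ?_⟩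
    show 9 * a + 36 * b + 49 * c + 100 * f + 196 * g + 225 * k + 400 * l + 441 * m = 560
    omega

end Main

/-- **Task 873.** -/
theorem central_three {n : ℕ} (hn : n = 6 ∨ n = 7) {G : Type u} [Group G] [Finite G] (M : Subgroup G) [hM : M.Normal]
    (e : G ⧸ M ≃* alternatingGroup (Fin n)) (hMc : M ≤ center G) (hcard : Nat.card M = 3)
    (hab : ∀ χ : IrrCharacter G, ¬ M ≤ chKer χ → ∃ d : ℕ, ADeg n d ∧ charDegree (χ : G → ℂ) = Nat.card M * d) :
    False :=
  central_three_aux hn M e hMc hcard hab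

end Cfsg.Agent.H462.Cod
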